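import Cfsg.Agent.Lib.OrderDegrees.BlockThree.Inflated
import Cfsg.Agent.Lib.CoprimeAction.Abelian
import Mathlib.GroupTheory.Sylow
import Mathlib.GroupTheory.PGroup

/-!
# The even part of `S₃ × S₃ × S₃` with a TI normal Sylow 3-subgroup is the whole group
-/

set_option autoImplicit false
set_option linter.style.haveILetI false
set_option linter.unusedSectionVars false
set_option synthInstance.maxSize 2000

open scoped ComplexConjugate
open Cfsg CfsgLib.CharTheory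

namespace CfsgLib.OrderDegrees.BlockThree

/-- Three copies of `S₃`. -/
abbrev Q3 : Type := Fin 3 → Equiv.Perm (Fin 3)

/-- The three-cycle. -/
def cyc : Equiv.Perm (Fin 3) := Equiv.swap 0 1 * Equiv.swap 1 2

/-- The three-cycle in block `k`. -/
def cvec (k : Fin 3) : Q3 := fun j => if j = k then cyc else 1

/-- The double transposition fixing block `k`. -/
def evec (k : Fin 3) : Q3 := fun j => if j = k then 1 else Equiv.swap 0 1

/-- An even triple. -/
def EvenTriple (a : Q3) : Prop :=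
  Equiv.Perm.sign (a 0) * Equiv.Perm.sign (a 1) * Equiv.Perm.sign (a 2) = 1

instance : DecidablePred EvenTriple := fun a =>
  inferInstanceAs (Decidable (Equiv.Perm.sign (a 0) * Equiv.Perm.sign (a 1) * Equiv.Perm.sign (a 2) = 1))

theorem involution_shape : ∀ a : Q3, EvenTriple a → a * a = 1 → a ≠ 1 →
    ∃ k, a k = 1 ∧ (∀ j, j ≠ k → a j ≠ 1) ∧ a * cvec k = cvec k * a ∧
      ∀ b : Q3, (∀ j, b j ^ 3 = 1) → a * b = b * a → ∀ j, j ≠ k → b j = 1 := by decide +kernel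

theorem cube_comm : ∀ σ τ : Equiv.Perm (Fin 3), σ ^ 3 = 1 → τ ^ 3 = 1 → σ * τ = τ * σ := by
  decide +kernel

theorem cyc_of_fourth : ∀ σ : Equiv.Perm (Fin 3), IsCyc σ → σ ^ 4 ≠ 1 ∧ (σ ^ 4) ^ 3 = 1 := by
  decide +kernel

theorem pow_six : ∀ σ : Equiv.Perm (Fin 3), σ ^ 6 = 1 := by decide +kernel

theorem generated : ∀ σ : Equiv.Perm (Fin 3), ∃ i : Fin 3, ∃ j : Fin 2,
    σ = cyc ^ (i : ℕ) * Equiv.swap (0 : Fin 3) 1 ^ (j : ℕ) := by decide +kernel

theorem central_trivial : ∀ σ : Equiv.Perm (Fin 3), σ * cyc = cyc * σ → σ ^ 3 = 1 := by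
  decide +kernel

theorem vec_facts : ∀ k : Fin 3, (cvec k k ≠ 1 ∧ IsCyc (cvec k k)) ∧
    (∀ j, cvec k j ^ 3 = 1) ∧ (∀ j, j ≠ k → cvec k j = 1) ∧
    evec k * evec k = 1 ∧ evec k ≠ 1 ∧ evec k * cvec k = cvec k * evec k ∧
    (∀ i, i ≠ k → evec k * cvec i * (evec k)⁻¹ * (cvec i)⁻¹ = cvec i) := by decide +kernel

theorem conj_shape : ∀ (σ : Equiv.Perm (Fin 3)), σ * cyc * σ⁻¹ ≠ 1 := by decide +kernel

theorem only_block : ∀ (σ : Equiv.Perm (Fin 3)), σ ^ 3 = 1 → σ ≠ 1 →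
    σ = cyc ∨ σ = cyc⁻¹ := by decide +kernel

variable {G : Type*} [Group G] [Fintype G]

/-- The hypotheses. -/
structure Setting (G : Type*) [Group G] where
  /-- the subgroup -/
  H : Subgroup G
  /-- the normal Sylow subgroup -/
  T : Subgroup G
  /-- block coordinates -/
  q : H →* Q3
  inj : Function.Injective q
  even : ∀ h, EvenTriple (q h)
  hasC : ∀ k, ∃ h : H, q h = cvec k
  hasE : ∀ k, ∃ h : H, q h = evec k
  le : T ≤ H
  card_T : Nat.card T = 27
  norm : Subgroup.normalizer (T : Set G) = H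
  cent : ∀ t ∈ T, t ≠ 1 → Subgroup.centralizer ({t} : Set G) ≤ H

namespace Setting

variable (S : Setting G)

theorem card_dvd : Nat.card S.H ∣ 216 := by
  have h := Subgroup.card_subgroup_dvd_card S.q.range
  rw [← Nat.card_congr (MonoidHom.ofInjective S.inj).toEquiv] at h
  have hc : Nat.card Q3 = 216 := by
    rw [Nat.card_fun, card_perm_three, Nat.card_fin]; rfl
  rwa [hc] at h

theorem normal_T : (S.T.subgroupOf S.H).Normal := by
  rw [← S.norm]
  exact Subgroup.normal_in_normalizer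

/-- The elements of order dividing three of `H` lie in `T`. -/
theorem mem_T_iff (h : S.H) : (h : G) ∈ S.T ↔ ∀ j, S.q h j ^ 3 = 1 := by
  constructor
  · intro hT j
    have h27 : orderOf (h : G) ∣ 27 := by
      rw [← Subgroup.orderOf_mk (h : G) hT]
      exact S.card_T ▸ orderOf_dvd_natCard (⟨(h : G), hT⟩ : S.T)
    rw [Subgroup.orderOf_coe] at h27
    have h1 : orderOf (S.q h j) ∣ 27 :=
      (orderOf_map_dvd ((Pi.evalMonoidHom _ j).comp S.q) h).trans h27
    have h2 : orderOf (S.q h j) ∣ 6 := orderOf_dvd_of_pow_eq_one (pow_six _)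
    refine orderOf_dvd_iff_pow_eq_one.1 ?_
    exact (Nat.dvd_gcd h1 h2).trans (by norm_num)
  · intro h3
    have hh : h ^ 3 = 1 := S.inj (by rw [map_pow, map_one]; exact funext h3)
    haveI := S.normal_T
    let π := QuotientGroup.mk' (S.T.subgroupOf S.H)
    have hidx : Nat.Coprime 3 (Nat.card (↥S.H ⧸ S.T.subgroupOf S.H)) := by
      rw [← Subgroup.index_eq_card]
      have hm := Subgroup.card_mul_index (S.T.subgroupOf S.H)
      rw [Nat.card_congr (Subgroup.subgroupOfEquivOfLe S.le).toEquiv, S.card_T] at hm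
      have hd := S.card_dvd
      rw [← hm] at hd
      have h8 : (S.T.subgroupOf S.H).index ∣ 8 :=
        Nat.dvd_of_mul_dvd_mul_left (by norm_num : 0 < 27) (by norm_num; exact hd)
      exact Nat.Coprime.coprime_dvd_right h8 (by norm_num)
    have h1 : orderOf (π h) ∣ 1 := by
      rw [← hidx.gcd_eq_one]
      exact Nat.dvd_gcd ((orderOf_map_dvd π h).trans (orderOf_dvd_of_pow_eq_one hh))
        (orderOf_dvd_natCard _)
    have := orderOf_eq_one_iff.1 (Nat.dvd_one.1 h1)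
    exact (QuotientGroup.eq_one_iff h).1 this

theorem comm_T {a b : G} (ha : a ∈ S.T) (hb : b ∈ S.T) : a * b = b * a := by
  have h := S.inj (a₁ := ⟨a, S.le ha⟩ * ⟨b, S.le hb⟩) (a₂ := ⟨b, S.le hb⟩ * ⟨a, S.le ha⟩) (by
    rw [map_mul, map_mul]
    exact funext fun j => cube_comm _ _ ((S.mem_T_iff ⟨a, S.le ha⟩).1 ha j)
      ((S.mem_T_iff ⟨b, S.le hb⟩).1 hb j))
  exact congrArg Subtype.val h

/-- The `3`-elements of `H` lie in `T`. -/
theorem mem_T_of_pow {g : G} (hg : g ∈ S.H) {m : ℕ} (hm : g ^ 3 ^ m = 1) : g ∈ S.T := by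
  refine (S.mem_T_iff ⟨g, hg⟩).2 fun j => orderOf_dvd_iff_pow_eq_one.1 ?_
  have h1 : orderOf (S.q ⟨g, hg⟩ j) ∣ 3 ^ m :=
    (orderOf_map_dvd ((Pi.evalMonoidHom _ j).comp S.q) _).trans
      (orderOf_dvd_of_pow_eq_one (Subtype.ext (by simpa using hm)))
  have h2 : orderOf (S.q ⟨g, hg⟩ j) ∣ 6 := orderOf_dvd_of_pow_eq_one (pow_six _)
  obtain ⟨i, -, hi⟩ := (Nat.dvd_prime_pow Nat.prime_three).1 h1
  rw [hi] at h2 ⊢
  rcases i with _ | _ | i
  · simp
  · simp
  · exfalso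
    have h9 : 3 ^ 2 ∣ 6 := (pow_dvd_pow 3 (show 2 ≤ i + 1 + 1 by omega)).trans h2
    norm_num at h9

theorem pow_three {t : G} (ht : t ∈ S.T) : t ^ 3 = 1 :=
  congrArg Subtype.val (S.inj (by
    rw [map_pow, map_one]; exact funext ((S.mem_T_iff ⟨t, S.le ht⟩).1 ht)) :
    (⟨t, S.le ht⟩ : S.H) ^ 3 = 1)

/-- `T` is a Sylow subgroup. -/
theorem exists_sylow : ∃ S₀ : Sylow 3 G, (S₀ : Subgroup G) = S.T := by
  haveI := Fact.mk Nat.prime_three
  have hT : IsPGroup 3 S.T := IsPGroup.of_card (n := 3) (by rw [S.card_T]; norm_num)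
  obtain ⟨Q, hQ⟩ := hT.exists_le_sylow
  refine ⟨Q, ?_⟩
  by_contra hne
  haveI : Group.IsNilpotent (Q : Subgroup G) := Q.2.isNilpotent
  obtain ⟨⟨g, hgQ⟩, hg, hg'⟩ := SetLike.exists_of_lt
    (Group.normalizerCondition_of_isNilpotent (G := (Q : Subgroup G)) (S.T.subgroupOf Q)
      (lt_top_iff_ne_top.2 fun e => hne (le_antisymm (fun z hz => by
        have : (⟨z, hz⟩ : (Q : Subgroup G)) ∈ S.T.subgroupOf Q := e ▸ Subgroup.mem_top _
        exact this) hQ)))
  have hgN : g ∈ S.H := by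
    rw [← S.norm, Subgroup.mem_normalizer_iff]
    intro z
    have hg2 := Subgroup.mem_normalizer_iff.1 hg
    refine ⟨fun hz => (hg2 ⟨z, hQ hz⟩).1 hz, fun hz => ?_⟩
    have hzQ : z ∈ (Q : Subgroup G) := by
      have := (Q : Subgroup G).mul_mem ((Q : Subgroup G).mul_mem ((Q : Subgroup G).inv_mem hgQ) (hQ hz)) hgQ
      simpa [mul_assoc] using this
    exact (hg2 ⟨z, hzQ⟩).2 hz
  obtain ⟨m, hm⟩ := Q.2 ⟨g, hgQ⟩
  exact hg' (S.mem_T_of_pow hgN (by simpa using congrArg Subtype.val hm))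

/-- A conjugation inside `T` happens inside `H`. -/
theorem mem_of_conj {x t : G} (ht : t ∈ S.T) (ht1 : t ≠ 1) (hx : x * t * x⁻¹ ∈ S.T) : x ∈ S.H := by
  have hle : ∀ s ∈ S.T, x * s * x⁻¹ ∈ S.T := by
    intro s hs
    have hH : x * s * x⁻¹ ∈ S.H := by
      refine S.cent _ hx (fun e => ht1 (conj_eq_one_iff.1 e)) ?_
      rw [Subgroup.mem_centralizer_singleton_iff, conj_mul, conj_mul, S.comm_T hs ht]
    refine (S.mem_T_iff ⟨_, hH⟩).2 fun j => ?_
    have h3 : (⟨x * s * x⁻¹, hH⟩ : S.H) ^ 3 = 1 := by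
      refine Subtype.ext ?_
      show (x * s * x⁻¹) ^ 3 = 1
      have hs3 : (⟨s, S.le hs⟩ : S.H) ^ 3 = 1 :=
        S.inj (by rw [map_pow, map_one]; exact funext ((S.mem_T_iff ⟨s, S.le hs⟩).1 hs))
      rw [conj_pow, show s ^ 3 = 1 from congrArg Subtype.val hs3]
      group
    rw [← Pi.pow_apply, ← map_pow, h3, map_one]; rfl
  rw [← S.norm, Subgroup.mem_normalizer_iff]
  intro s
  refine ⟨hle s, fun h => ?_⟩
  have hmap : S.T.map (MulAut.conj x).toMonoidHom = S.T := by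
    refine Subgroup.eq_of_le_of_card_ge (fun z hz => ?_) ?_
    · obtain ⟨w, hw, rfl⟩ := hz
      exact hle w hw
    · exact (Nat.card_congr (S.T.equivMapOfInjective _ (MulAut.conj x).injective).toEquiv).le
  obtain ⟨w, hw, hwe⟩ := hmap.ge h
  change x * w * x⁻¹ = x * s * x⁻¹ at hwe
  rwa [← mul_left_cancel (mul_right_cancel hwe)]

/-- The block projection. -/
def proj (k : Fin 3) : S.H →* Equiv.Perm (Fin 3) := (Pi.evalMonoidHom _ k).comp S.q

theorem proj_surjective (k : Fin 3) : Function.Surjective (S.proj k) := by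
  intro σ
  obtain ⟨c, hc⟩ := S.hasC k
  obtain ⟨j', hj'⟩ : ∃ j : Fin 3, j ≠ k := ⟨k + 1, (by decide : ∀ k : Fin 3, k + 1 ≠ k) k⟩
  obtain ⟨e, he⟩ := S.hasE j'
  have h1 : S.proj k c = cyc := by simp [proj, hc, cvec]
  have h2 : S.proj k e = Equiv.swap 0 1 := by simp [proj, he, evec, Ne.symm hj']
  obtain ⟨i, j, rfl⟩ := generated σ
  exact ⟨c ^ (i : ℕ) * e ^ (j : ℕ), by rw [map_mul, map_pow, map_pow, h1, h2]⟩

theorem fourth_mem {h : S.H} {k : Fin 3} (hk : IsCyc (S.proj k h)) :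
    ((h : G) ^ 4) ∈ S.T ∧ (h : G) ^ 4 ≠ 1 := by
  refine ⟨?_, fun e => ?_⟩
  · have := (S.mem_T_iff (h ^ 4)).2 fun j => by
      rw [map_pow, Pi.pow_apply, ← pow_mul, show 4 * 3 = 6 * 2 from rfl, pow_mul, pow_six, one_pow]
    simpa using this
  · have h4 : h ^ 4 = 1 := Subtype.ext (by simpa using e)
    refine (cyc_of_fourth _ hk).1 ?_
    rw [← map_pow, h4, map_one]

theorem ti (k : Fin 3) (x : G) (h h' : S.H) (hh : IsCyc (S.proj k h)) (_hh' : IsCyc (S.proj k h'))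
    (he : x⁻¹ * h * x = h') : x ∈ S.H := by
  obtain ⟨h1, h2⟩ := S.fourth_mem hh
  have h3 := (S.fourth_mem _hh').1
  have := S.mem_of_conj (x := x⁻¹) h1 h2 (by
    rw [← conj_pow, inv_inv, he]; exact h3)
  simpa using S.H.inv_mem this

theorem pairs (k : Fin 3) (x y : G) (hx : x * x = 1) (hy : y * y = 1) (h : S.H)
    (hh : IsCyc (S.proj k h)) (he : x * y = h) : x ∈ S.H := by
  obtain ⟨h1, h2⟩ := S.fourth_mem hh
  refine S.mem_of_conj h1 h2 ?_
  have e : x * (x * y) ^ 4 * x⁻¹ = ((x * y) ^ 4)⁻¹ := by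
    rw [← conj_pow, ← inv_pow, mul_inv_rev, inv_eq_self hx, inv_eq_self hy, ← mul_assoc x x y, hx,
      one_mul]
  rw [← he, e, he]
  exact inv_mem h1

/-- Nine does not divide the order of the centralizer of an involution of `H`. -/
theorem not_nine_dvd {a : S.H} (ha : a * a = 1) (ha1 : a ≠ 1) :
    ¬ 9 ∣ Nat.card (Subgroup.centralizer ({(a : G)} : Set G)) := by
  haveI := Fact.mk Nat.prime_three
  intro hd
  obtain ⟨P⟩ := (inferInstance : Nonempty (Sylow 3 (Subgroup.centralizer ({(a : G)} : Set G))))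
  set C := Subgroup.centralizer ({(a : G)} : Set G)
  obtain ⟨S₀, hS₀⟩ := S.exists_sylow
  obtain ⟨Q, hQ⟩ := (P.2.map C.subtype).exists_le_sylow
  obtain ⟨d, hd'⟩ := MulAction.exists_smul_eq G Q S₀
  have hmapT : ∀ z : C, z ∈ (P : Subgroup C) → d * (z : G) * d⁻¹ ∈ S.T := fun z hz => by
    rw [← hS₀, ← hd']; exact ⟨z, hQ ⟨z, hz, rfl⟩, rfl⟩
  set a' := d * (a : G) * d⁻¹ with ha'
  have h9 : 9 ∣ Nat.card (P : Subgroup C) := by
    have := Sylow.pow_dvd_card_of_pow_dvd_card P (n := 2) (by norm_num; exact hd)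
    simpa using this
  obtain ⟨z, hz, hz1⟩ : ∃ z ∈ (P : Subgroup C), z ≠ 1 := by
    by_contra hall
    push Not at hall
    have hb : (P : Subgroup C) = ⊥ := (Subgroup.eq_bot_iff_forall _).2 hall
    rw [hb, Subgroup.card_bot] at h9
    norm_num at h9
  have hcomm : ∀ z : C, a' * (d * (z : G) * d⁻¹) = d * (z : G) * d⁻¹ * a' := fun z => by
    rw [ha', conj_mul, conj_mul, Subgroup.mem_centralizer_singleton_iff.1 z.2]
  have haH : a' ∈ S.H :=
    S.cent _ (hmapT z hz) (fun e => hz1 (Subtype.ext (conj_eq_one_iff.1 e)))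
      (Subgroup.mem_centralizer_singleton_iff.2 (hcomm z))
  have hA2 : (⟨a', haH⟩ : S.H) * ⟨a', haH⟩ = 1 := Subtype.ext (by
    show a' * a' = 1
    rw [ha', conj_mul, show (a : G) * a = 1 from congrArg Subtype.val ha]; group)
  have hA1 : S.q ⟨a', haH⟩ ≠ 1 := fun e => ha1 (Subtype.ext (conj_eq_one_iff.1
    (congrArg Subtype.val (S.inj (e.trans (map_one S.q).symm) : (⟨a', haH⟩ : S.H) = 1))))
  obtain ⟨k, -, -, -, hk⟩ := involution_shape _ (S.even ⟨a', haH⟩)
    (by rw [← map_mul, hA2, map_one]) hA1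
  have hcount : Nat.card (P : Subgroup C) ≤ 3 := by
    refine le_trans ?_ (show Nat.card {σ : Equiv.Perm (Fin 3) // σ ^ 3 = 1} ≤ 3 by
      rw [Nat.card_eq_fintype_card]; decide)
    have hm : ∀ z : (P : Subgroup C), d * ((z : C) : G) * d⁻¹ ∈ S.H := fun z => S.le (hmapT z z.2)
    refine Nat.card_le_card_of_injective (fun z => (⟨S.q ⟨_, hm z⟩ k,
      (S.mem_T_iff ⟨_, hm z⟩).1 (hmapT z z.2) k⟩ : {σ : Equiv.Perm (Fin 3) // σ ^ 3 = 1})) ?_
    intro z w e
    have hq : S.q ⟨_, hm z⟩ = S.q ⟨_, hm w⟩ := funext fun j => by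
      by_cases hj : j = k
      · subst hj; exact congrArg Subtype.val e
      · rw [hk _ ((S.mem_T_iff ⟨_, hm z⟩).1 (hmapT z z.2)) (by
            rw [← map_mul, ← map_mul]
            exact congrArg S.q (Subtype.ext (hcomm z))) j hj,
          hk _ ((S.mem_T_iff ⟨_, hm w⟩).1 (hmapT w w.2)) (by
            rw [← map_mul, ← map_mul]
            exact congrArg S.q (Subtype.ext (hcomm w))) j hj]
    exact Subtype.ext (Subtype.ext (mul_left_cancel (mul_right_cancel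
      (congrArg Subtype.val (S.inj hq)))))
  exact absurd (Nat.le_of_dvd Nat.card_pos h9) (by omega)

/-- The conjugates of `evec k` in `H` are trivial in block `k`. -/
theorem fusion {k : Fin 3} {u : S.H} (hu : S.q u = evec k) (x : S.H) (hx : IsConj (u : G) (x : G)) :
    S.proj k x = 1 := by
  haveI := Fact.mk Nat.prime_three
  obtain ⟨-, -, -, hvv, hv1, hvc, -⟩ := vec_facts k
  have hu2 : u * u = 1 := S.inj (by rw [map_mul, map_one, hu, hvv])
  have hu1 : u ≠ 1 := fun e => hv1 (by rw [← hu, e, map_one])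
  obtain ⟨g, hg⟩ := isConj_iff.1 hx
  have hx2 : x * x = 1 := Subtype.ext (by
    show (x : G) * x = 1
    rw [← hg, conj_mul, show (u : G) * u = 1 from congrArg Subtype.val hu2]; group)
  have hx1 : x ≠ 1 := fun e => hu1 (Subtype.ext (conj_eq_one_iff.1 (hg.trans (congrArg Subtype.val e))))
  obtain ⟨l, hl, -, hlc, -⟩ := involution_shape _ (S.even x) (by rw [← map_mul, hx2, map_one])
    (fun e => hx1 (S.inj (e.trans (map_one S.q).symm)))
  by_cases hlk : l = k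
  · exact hlk ▸ hl
  exfalso
  obtain ⟨ck, hck⟩ := S.hasC k
  obtain ⟨cl, hcl⟩ := S.hasC l
  obtain ⟨⟨hk1, -⟩, hk3, hkz, -, -, -, -⟩ := vec_facts k
  obtain ⟨⟨hl1, -⟩, hl3, hlz, -, -, -, -⟩ := vec_facts l
  set C := Subgroup.centralizer ({(x : G)} : Set G) with hCdef
  have hckT : (ck : G) ∈ S.T := (S.mem_T_iff ck).2 (by rw [hck]; exact hk3)
  have hclT : (cl : G) ∈ S.T := (S.mem_T_iff cl).2 (by rw [hcl]; exact hl3)
  have hck1 : (ck : G) ≠ 1 := fun e => hk1 (by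
    rw [← hck, show ck = 1 from Subtype.ext e, map_one]; rfl)
  have hcl1 : (cl : G) ≠ 1 := fun e => hl1 (by
    rw [← hcl, show cl = 1 from Subtype.ext e, map_one]; rfl)
  have hUC : g * ck * g⁻¹ ∈ C := by
    rw [Subgroup.mem_centralizer_singleton_iff, ← hg, conj_mul, conj_mul]
    have : ck * u = u * ck := S.inj (by rw [map_mul, map_mul, hck, hu, hvc])
    rw [show (ck : G) * u = u * ck from congrArg Subtype.val this]
  have hLC : (cl : G) ∈ C := by
    rw [Subgroup.mem_centralizer_singleton_iff]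
    exact congrArg Subtype.val (S.inj (by rw [map_mul, map_mul, hcl]; exact hlc.symm) :
      cl * x = x * cl)
  obtain ⟨P⟩ := (inferInstance : Nonempty (Sylow 3 C))
  have hPc : Nat.card (P : Subgroup C) ≤ 3 := by
    rw [P.card_eq_multiplicity]
    calc 3 ^ (Nat.card C).factorization 3 ≤ 3 ^ 1 := Nat.pow_le_pow_right (by norm_num) (by
          by_contra hlt
          refine S.not_nine_dvd hx2 hx1 ((Nat.Prime.pow_dvd_iff_le_factorization (k := 2)
            Nat.prime_three Nat.card_pos.ne').2 ?_)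
          rw [← hCdef]
          omega)
      _ = 3 := by norm_num
  have hord : ∀ t : G, t ∈ S.T → t ≠ 1 → orderOf t = 3 := fun t ht ht1 =>
    orderOf_eq_prime (congrArg Subtype.val (S.inj (by
      rw [map_pow, map_one]; exact funext ((S.mem_T_iff ⟨t, S.le ht⟩).1 ht)) :
      (⟨t, S.le ht⟩ : S.H) ^ 3 = 1)) ht1
  have hsyl : ∀ z : C, orderOf (z : G) = 3 → ∃ Q : Sylow 3 C, (Q : Subgroup C) = Subgroup.zpowers z := by
    intro z hz
    have hzc : Nat.card (Subgroup.zpowers z) = 3 := by rw [Nat.card_zpowers, ← Subgroup.orderOf_coe, hz]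
    obtain ⟨Q, hQ⟩ := (IsPGroup.of_card (n := 1) (by rw [hzc, pow_one]) :
      IsPGroup 3 (Subgroup.zpowers z)).exists_le_sylow
    refine ⟨Q, (Subgroup.eq_of_le_of_card_ge hQ ?_).symm⟩
    rw [hzc, Q.card_eq_multiplicity, ← P.card_eq_multiplicity]; exact hPc
  obtain ⟨Qu, hQu⟩ := hsyl ⟨_, hUC⟩ (by
    rw [show ((⟨g * (ck : G) * g⁻¹, hUC⟩ : C) : G) = MulAut.conj g (ck : G) from rfl, MulEquiv.orderOf_eq]
    exact hord _ hckT hck1)
  obtain ⟨Qw, hQw⟩ := hsyl ⟨_, hLC⟩ (hord _ hclT hcl1)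
  obtain ⟨d, hd⟩ := MulAction.exists_smul_eq C Qu Qw
  have hmem : (d : G) * (g * ck * g⁻¹) * (d : G)⁻¹ ∈ Subgroup.zpowers (cl : G) := by
    have : d * ⟨g * ck * g⁻¹, hUC⟩ * d⁻¹ ∈ (Qw : Subgroup C) := by
      rw [← hd]; exact ⟨⟨g * ck * g⁻¹, hUC⟩, hQu ▸ Subgroup.mem_zpowers _, rfl⟩
    rw [hQw] at this
    obtain ⟨j, hj⟩ := Subgroup.mem_zpowers_iff.1 this
    exact Subgroup.mem_zpowers_iff.2 ⟨j, by simpa using congrArg Subtype.val hj⟩
  rw [show (d : G) * (g * ck * g⁻¹) * (d : G)⁻¹ = ((d : G) * g) * ck * ((d : G) * g)⁻¹ by group] at hmem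
  have hy : (d : G) * g ∈ S.H := S.mem_of_conj hckT hck1 ((Subgroup.zpowers_le.2 hclT) hmem)
  obtain ⟨j, hj⟩ := Subgroup.mem_zpowers_iff.1 hmem
  have hjH : cl ^ j = ⟨(d : G) * g, hy⟩ * ck * ⟨(d : G) * g, hy⟩⁻¹ := Subtype.ext (by simpa using hj)
  have := congrFun (congrArg S.q hjH) k
  rw [map_zpow, map_mul, map_mul, map_inv, hcl, hck, Pi.pow_apply, hlz k (Ne.symm hlk), one_zpow] at this
  rw [Pi.mul_apply, Pi.mul_apply, Pi.inv_apply] at this
  refine conj_shape (S.q ⟨(d : G) * g, hy⟩ k) ?_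
  simpa [cvec] using this.symm

/-- A normal subgroup for each block. -/
theorem exists_normal (k : Fin 3) : ∃ K : Subgroup G, K.Normal ∧
    (∀ i, i ≠ k → ∀ c : S.H, S.q c = cvec i → (c : G) ∈ K) ∧
    ∀ h : S.H, (h : G) ∈ K → (h : G) ∈ S.T → S.q h k = 1 := by
  classical
  haveI := Fintype.ofFinite S.H
  obtain ⟨u, hu⟩ := S.hasE k
  obtain ⟨c, hc⟩ := S.hasC k
  obtain ⟨⟨-, hcyc⟩, -, -, hvv, -, -, -⟩ := vec_facts k
  have hu2 : (u : G) * u = 1 :=
    congrArg Subtype.val (S.inj (by rw [map_mul, map_one, hu, hvv]) : u * u = 1)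
  obtain ⟨χ, hχu, hχc⟩ := exists_irr_kernel S.H (S.proj k) (S.proj_surjective k) (u : G) hu2
    (S.ti k) (S.pairs k) (fun x hx => S.fusion hu x hx) c
    (show IsCyc (S.q c k) by rw [hc]; exact hcyc)
  obtain ⟨K, hK, hmem, -⟩ := exists_kernel (IsIrrCharacter.isCharacter χ.2)
  refine ⟨K, hK, fun i hik ci hci => ?_, fun h hhK hhT => ?_⟩
  · have huK : (u : G) ∈ K := (hmem _).2 hχu
    have e : u * ci * u⁻¹ * ci⁻¹ = ci := S.inj (by
      rw [map_mul, map_mul, map_mul, map_inv, map_inv, hu, hci]; exact (vec_facts k).2.2.2.2.2.2 i hik)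
    rw [← e]
    show (u : G) * ci * (u : G)⁻¹ * (ci : G)⁻¹ ∈ K
    rw [mul_assoc (u : G), mul_assoc (u : G)]
    exact K.mul_mem huK (hK.conj_mem _ (K.inv_mem huK) _)
  · by_contra hne
    refine hχc ((hmem _).1 ?_)
    -- the other two blocks lie in `K`, so the component in block `k` does
    have hothers : ∀ i, i ≠ k → ∀ ci : S.H, S.q ci = cvec i → (ci : G) ∈ K := by
      intro i hik ci hci
      have huK : (u : G) ∈ K := (hmem _).2 hχu
      have e : u * ci * u⁻¹ * ci⁻¹ = ci := S.inj (by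
        rw [map_mul, map_mul, map_mul, map_inv, map_inv, hu, hci]; exact (vec_facts k).2.2.2.2.2.2 i hik)
      rw [← e]
      show (u : G) * ci * (u : G)⁻¹ * (ci : G)⁻¹ ∈ K
      rw [mul_assoc (u : G), mul_assoc (u : G)]
      exact K.mul_mem huK (hK.conj_mem _ (K.inv_mem huK) _)
    choose cs hcs using S.hasC
    let K' : Subgroup S.H := K.comap S.H.subtype
    have hcs' : ∀ i, i ≠ k → cs i ∈ K' := fun i hik => hothers i hik _ (hcs i)
    have hh : h ∈ K' := hhK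
    have h3 := (S.mem_T_iff h).1 hhT
    have key : ∀ i : Fin 3, i ≠ k → ∃ w ∈ K', S.q w i = S.q h i ∧ ∀ j, j ≠ i → S.q w j = 1 := by
      intro i hik
      by_cases h1 : S.q h i = 1
      · exact ⟨1, K'.one_mem, by rw [map_one, h1]; rfl, fun j _ => by rw [map_one]; rfl⟩
      · rcases only_block _ (h3 i) h1 with e | e
        · exact ⟨cs i, hcs' i hik, by rw [hcs, e]; simp [cvec], fun j hj => by rw [hcs]; exact (vec_facts i).2.2.1 j hj⟩
        · exact ⟨(cs i)⁻¹, K'.inv_mem (hcs' i hik), by rw [map_inv, Pi.inv_apply, hcs, e]; simp [cvec],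
            fun j hj => by rw [map_inv, Pi.inv_apply, hcs, (vec_facts i).2.2.1 j hj, inv_one]⟩
    obtain ⟨i₁, i₂, h1k, h2k, h12, hall⟩ : ∃ i₁ i₂ : Fin 3, i₁ ≠ k ∧ i₂ ≠ k ∧ i₁ ≠ i₂ ∧
        ∀ j, j ≠ k → j = i₁ ∨ j = i₂ :=
      (by decide : ∀ k : Fin 3, ∃ i₁ i₂ : Fin 3, i₁ ≠ k ∧ i₂ ≠ k ∧ i₁ ≠ i₂ ∧ ∀ j, j ≠ k → j = i₁ ∨ j = i₂) k
    obtain ⟨w₁, hw₁, hw₁i, hw₁o⟩ := key i₁ h1k
    obtain ⟨w₂, hw₂, hw₂i, hw₂o⟩ := key i₂ h2k
    have hz : h * w₁⁻¹ * w₂⁻¹ ∈ K' := K'.mul_mem (K'.mul_mem hh (K'.inv_mem hw₁)) (K'.inv_mem hw₂)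
    have hzq : S.q (h * w₁⁻¹ * w₂⁻¹) = fun j => if j = k then S.q h k else 1 := by
      funext j
      simp only [map_mul, map_inv, Pi.mul_apply, Pi.inv_apply]
      split_ifs with hj
      · subst hj; rw [hw₁o j (Ne.symm h1k), hw₂o j (Ne.symm h2k)]; simp
      · rcases hall j hj with rfl | rfl
        · rw [hw₁i, hw₂o j h12]; simp
        · rw [hw₁o j h12.symm, hw₂i]; simp
    rcases only_block _ (h3 k) hne with e | e
    · have : h * w₁⁻¹ * w₂⁻¹ = c := S.inj (by rw [hzq, hc, e]; rfl)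
      exact this ▸ hz
    · have : (h * w₁⁻¹ * w₂⁻¹)⁻¹ = c := S.inj (by
        rw [map_inv, hzq, hc, e]; funext j; by_cases hj : j = k <;> simp [cvec, hj])
      exact this ▸ K'.inv_mem hz

/-- The subgroup is the whole group. -/
theorem eq_top : S.H = ⊤ := by
  classical
  haveI := Fact.mk Nat.prime_three
  choose K hKn hKc hKt using S.exists_normal
  haveI := hKn
  have hTH := S.le
  -- Frattini
  have hfr : ∀ k, S.H ⊔ K k = ⊤ := by
    intro k
    obtain ⟨i, hik⟩ : ∃ i : Fin 3, i ≠ k := ⟨k + 1, (by decide : ∀ k : Fin 3, k + 1 ≠ k) k⟩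
    obtain ⟨ci, hci⟩ := S.hasC i
    obtain ⟨P⟩ := (inferInstance : Nonempty (Sylow 3 (K k)))
    obtain ⟨S₀, hS₀⟩ := S.exists_sylow
    -- move it into `T`
    obtain ⟨Q, hQ⟩ := (P.2.map (K k).subtype).exists_le_sylow
    obtain ⟨d, hd⟩ := MulAction.exists_smul_eq G Q S₀
    let P' : Sylow 3 (K k) := (MulAut.conjNormal d : MulAut (K k)) • P
    have hPT : (P' : Subgroup (K k)).map (K k).subtype ≤ S.T := by
      rintro _ ⟨w, hw, rfl⟩
      obtain ⟨z, hz, rfl⟩ := hw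
      rw [← hS₀, ← hd]
      exact ⟨z, hQ ⟨z, hz, rfl⟩, rfl⟩
    have hciT : (ci : G) ∈ S.T := (S.mem_T_iff ci).2 (by rw [hci]; exact (vec_facts i).2.1)
    obtain ⟨w, hw, hw1⟩ : ∃ w ∈ (P' : Subgroup (K k)).map (K k).subtype, w ≠ 1 := by
      by_contra hall
      push Not at hall
      have hb : (P' : Subgroup (K k)) = ⊥ := (Subgroup.eq_bot_iff_forall _).2 fun z hz =>
        Subtype.ext (hall _ ⟨z, hz, rfl⟩)
      have h3 : 3 ∣ Nat.card (K k) := by
        have ho : orderOf (⟨(ci : G), hKc k i hik ci hci⟩ : K k) = 3 := by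
          rw [← Subgroup.orderOf_coe]
          refine orderOf_eq_prime (congrArg Subtype.val (S.inj (by
            rw [map_pow, map_one, hci]; exact funext (vec_facts i).2.1) : ci ^ 3 = 1)) fun e => ?_
          exact (vec_facts i).1.1 (by rw [← hci, show ci = 1 from Subtype.ext e, map_one]; rfl)
        exact ho ▸ orderOf_dvd_natCard _
      have := P'.dvd_card_of_dvd_card h3
      rw [hb, Subgroup.card_bot] at this
      norm_num at this
    refine top_le_iff.1 ((Sylow.normalizer_sup_eq_top P').ge.trans (sup_le_sup_right ?_ _))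
    intro g hg
    have hgw : g * w * g⁻¹ ∈ (P' : Subgroup (K k)).map (K k).subtype :=
      (Subgroup.mem_normalizer_iff.1 hg w).1 hw
    exact S.mem_of_conj (hPT hw) hw1 (hPT hgw)
  -- the intersection of the three normal subgroups is trivial
  set J := K 0 ⊓ K 1 ⊓ K 2 with hJ
  haveI : J.Normal := by infer_instance
  have hJk : ∀ k, J ≤ K k := by
    intro k
    fin_cases k
    · exact inf_le_left.trans inf_le_left
    · exact inf_le_left.trans inf_le_right
    · exact inf_le_right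
  have hJT : ∀ t ∈ S.T, t ∈ J → t = 1 := by
    intro t ht htJ
    have : (⟨t, hTH ht⟩ : S.H) = 1 := S.inj (by
      rw [map_one]; exact funext fun k => hKt k ⟨t, hTH ht⟩ (hJk k htJ) ht)
    exact congrArg Subtype.val this
  have hTn : ∀ g : G, ∀ t ∈ S.T, ∀ k, g * t * g⁻¹ ∈ K k ⊔ S.T := by
    intro g t ht k
    have hg : g ∈ S.H ⊔ K k := hfr k ▸ Subgroup.mem_top g
    rw [sup_comm, ← SetLike.mem_coe, Subgroup.normal_mul, Set.mem_mul] at hg
    obtain ⟨a, ha, h, hh, rfl⟩ := hg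
    have h1 : h * t * h⁻¹ ∈ S.T := (Subgroup.mem_normalizer_iff.1 (S.norm.ge hh) t).1 ht
    have e : a * h * t * (a * h)⁻¹ = (a * ((h * t * h⁻¹) * a⁻¹ * (h * t * h⁻¹)⁻¹)) * (h * t * h⁻¹) := by
      group
    rw [e]
    exact mul_mem (Subgroup.mem_sup_left (mul_mem ha ((hKn k).conj_mem _ (inv_mem ha) _)))
      (Subgroup.mem_sup_right h1)
  have hJbot : J = ⊥ := by
    have hTcomm : IsMulCommutative S.T := ⟨⟨fun a b => Subtype.ext (S.comm_T a.2 b.2)⟩⟩
    have hTnc : ¬ IsCyclic S.T := by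
      intro hcy
      obtain ⟨g, hg⟩ := IsCyclic.exists_ofOrder_eq_natCard (α := S.T)
      have h3 : g ^ 3 = 1 := Subtype.ext (by
        have := S.inj (a₁ := (⟨g.1, hTH g.2⟩ : S.H) ^ 3) (a₂ := 1) (by
          rw [map_pow, map_one]; exact funext ((S.mem_T_iff ⟨g.1, hTH g.2⟩).1 g.2))
        simpa using congrArg Subtype.val this)
      have := orderOf_dvd_of_pow_eq_one h3
      rw [hg, S.card_T] at this
      norm_num at this
    have hcop : (Nat.card S.T).Coprime (Nat.card J) := by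
      rw [S.card_T, show 27 = 3 ^ 3 from rfl, Nat.coprime_pow_left_iff (by norm_num)]
      refine (Nat.Prime.coprime_iff_not_dvd Nat.prime_three).2 fun h3 => ?_
      obtain ⟨z, hz⟩ := exists_prime_orderOf_dvd_card' (G := J) 3 h3
      obtain ⟨S₀, hS₀⟩ := S.exists_sylow
      have hzp : IsPGroup 3 (Subgroup.zpowers (z : G)) := IsPGroup.of_card (n := 1) (by
        rw [Nat.card_zpowers, Subgroup.orderOf_coe, hz, pow_one])
      obtain ⟨Q, hQ⟩ := hzp.exists_le_sylow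
      obtain ⟨d, hd⟩ := MulAction.exists_smul_eq G Q S₀
      have hmemT : d * (z : G) * d⁻¹ ∈ S.T := by
        rw [← hS₀, ← hd]; exact ⟨_, hQ (Subgroup.mem_zpowers _), rfl⟩
      have := hJT _ hmemT (Subgroup.Normal.conj_mem inferInstance _ z.2 _)
      rw [conj_eq_one_iff] at this
      rw [show z = 1 from Subtype.ext this, orderOf_one] at hz
      norm_num at hz
    rw [← CfsgLib.CoprimeAction.iSup_centralizers_eq hTnc
      (by rw [Subgroup.normalizer_eq_top]; exact le_top) hcop, eq_bot_iff]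
    refine iSup₂_le fun t ht x hx => ?_
    obtain ⟨htT, ht1⟩ := ht
    have hxH : x ∈ S.H := S.cent t htT ht1 hx.2
    have hall : ∀ k, S.q ⟨x, hxH⟩ * cvec k = cvec k * S.q ⟨x, hxH⟩ := by
      intro k
      obtain ⟨c, hc⟩ := S.hasC k
      have hcT : (c : G) ∈ S.T := (S.mem_T_iff c).2 (by rw [hc]; exact (vec_facts k).2.1)
      have h1 : x * c * x⁻¹ * (c : G)⁻¹ = 1 := by
        refine hJT _ (mul_mem ((Subgroup.mem_normalizer_iff.1 (S.norm.ge hxH) _).1 hcT) (inv_mem hcT)) ?_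
        rw [mul_assoc x, mul_assoc x]
        exact mul_mem hx.1 (Subgroup.Normal.conj_mem inferInstance _ (inv_mem hx.1) _)
      have h2 : (⟨x, hxH⟩ : S.H) * c = c * ⟨x, hxH⟩ := Subtype.ext (by
        show x * c = c * x
        exact mul_inv_eq_iff_eq_mul.1 (mul_inv_eq_one.1 h1))
      rw [← hc, ← map_mul, ← map_mul, h2]
    rw [Subgroup.mem_bot]
    refine hJT x ((S.mem_T_iff ⟨x, hxH⟩).2 fun k => central_trivial _ ?_) hx.1
    simpa [cvec] using congrFun (hall k) k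
  -- `T` is the intersection of the `K k ⊔ T`
  have hTeq : ∀ g : G, (∀ k, g ∈ K k ⊔ S.T) → g ∈ S.T := by
    intro g hg
    have hsplit : ∀ k, ∃ t ∈ S.T, g * t⁻¹ ∈ K k := fun k => by
      have := hg k
      rw [← SetLike.mem_coe, Subgroup.normal_mul, Set.mem_mul] at this
      obtain ⟨a, ha, t, ht, rfl⟩ := this
      exact ⟨t, ht, by simpa using ha⟩
    choose t ht hgt using hsplit
    choose cs hcs using S.hasC
    -- the element of `T` agreeing with `t k` in block `k`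
    have hblock : ∀ k, ∃ w ∈ S.T, w * (t k)⁻¹ ∈ K k ∧ ∀ j, j ≠ k → w ∈ K j := by
      intro k
      set th : S.H := ⟨t k, hTH (ht k)⟩
      have h3 := (S.mem_T_iff th).1 (ht k)
      obtain ⟨n, hn⟩ : ∃ n : ℕ, S.q th k = (cyc : Equiv.Perm (Fin 3)) ^ n := by
        by_cases h1 : S.q th k = 1
        · exact ⟨0, by rw [h1, pow_zero]⟩
        · rcases only_block _ (h3 k) h1 with e | e
          · exact ⟨1, by rw [e, pow_one]⟩
          · exact ⟨2, by rw [e]; decide +kernel⟩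
      have hcT : (cs k : G) ∈ S.T := (S.mem_T_iff (cs k)).2 (by rw [hcs]; exact (vec_facts k).2.1)
      refine ⟨(cs k : G) ^ n, pow_mem hcT n, ?_, fun j hj => pow_mem (hKc j k (Ne.symm hj) _ (hcs k)) n⟩
      choose i₁ i₂ hi using (show ∀ k : Fin 3, ∃ i₁ i₂ : Fin 3, i₁ ≠ k ∧ i₂ ≠ k ∧ i₁ ≠ i₂ ∧
        ∀ j, j ≠ k → j = i₁ ∨ j = i₂ by decide)
      have key : ∀ i, ∃ n : ℕ, S.q th i = (cyc : Equiv.Perm (Fin 3)) ^ n := by
        intro i
        by_cases h1 : S.q th i = 1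
        · exact ⟨0, by rw [h1, pow_zero]⟩
        · rcases only_block _ (h3 i) h1 with e | e
          · exact ⟨1, by rw [e, pow_one]⟩
          · exact ⟨2, by rw [e]; decide +kernel⟩
      obtain ⟨h1k, h2k, h12, hall⟩ := hi k
      obtain ⟨n₁, hn₁⟩ := key (i₁ k)
      obtain ⟨n₂, hn₂⟩ := key (i₂ k)
      have e : cs k ^ n * th⁻¹ = (cs (i₁ k) ^ n₁)⁻¹ * (cs (i₂ k) ^ n₂)⁻¹ := S.inj (by
        funext j
        simp only [map_mul, map_inv, map_pow, hcs, Pi.mul_apply, Pi.inv_apply, Pi.pow_apply]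
        by_cases hj : j = k
        · subst hj
          simp [cvec, hn, Ne.symm h1k, Ne.symm h2k]
        · rcases hall j hj with rfl | rfl
          · simp [cvec, hn₁, h1k, h12]
          · simp [cvec, hn₂, h2k, h12.symm])
      have : (cs k : G) ^ n * (t k)⁻¹ = ((cs (i₁ k) : G) ^ n₁)⁻¹ * ((cs (i₂ k) : G) ^ n₂)⁻¹ := by
        simpa using congrArg Subtype.val e
      rw [this]
      exact mul_mem (inv_mem (pow_mem (hKc k _ h1k _ (hcs _)) _))
        (inv_mem (pow_mem (hKc k _ h2k _ (hcs _)) _))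
    choose w hwT hwk hwo using hblock
    set W := w 0 * w 1 * w 2
    have hW : ∀ k, g * W⁻¹ ∈ K k := by
      intro k
      have hk1 : g * (w k)⁻¹ ∈ K k := by
        have := mul_mem (hgt k) ((hKn k).conj_mem _ (inv_mem (hwk k)) (1 : G))
        have e : g * (t k)⁻¹ * (1 * (w k * (t k)⁻¹)⁻¹ * 1⁻¹) = g * (w k)⁻¹ := by group
        rwa [e] at this
      have hk2 : w k * W⁻¹ ∈ K k := by
        have c01 := S.comm_T (hwT 0) (hwT 1)
        have c02 := S.comm_T (hwT 0) (hwT 2)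
        have c12 := S.comm_T (hwT 1) (hwT 2)
        fin_cases k
        · show w 0 * (w 0 * w 1 * w 2)⁻¹ ∈ K 0
          have : w 0 * (w 0 * w 1 * w 2)⁻¹ = w 0 * ((w 1 * w 2)⁻¹) * (w 0)⁻¹ := by group
          rw [this]
          exact (hKn 0).conj_mem _ (inv_mem (mul_mem (hwo 1 0 (by decide)) (hwo 2 0 (by decide)))) _
        · show w 1 * (w 0 * w 1 * w 2)⁻¹ ∈ K 1
          have : w 1 * (w 0 * w 1 * w 2)⁻¹ = w 1 * (w 2)⁻¹ * (w 1)⁻¹ * (w 0)⁻¹ := by group
          rw [this]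
          exact mul_mem ((hKn 1).conj_mem _ (inv_mem (hwo 2 1 (by decide))) _) (inv_mem (hwo 0 1 (by decide)))
        · show w 2 * (w 0 * w 1 * w 2)⁻¹ ∈ K 2
          have : w 2 * (w 0 * w 1 * w 2)⁻¹ = (w 0 * w 1)⁻¹ := by group
          rw [this]
          exact inv_mem (mul_mem (hwo 0 2 (by decide)) (hwo 1 2 (by decide)))
      have e : g * W⁻¹ = (g * (w k)⁻¹) * (w k * W⁻¹) := by group
      rw [e]; exact mul_mem hk1 hk2
    have hmem : g * W⁻¹ ∈ J := ⟨⟨hW 0, hW 1⟩, hW 2⟩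
    rw [hJbot, Subgroup.mem_bot, mul_inv_eq_one] at hmem
    rw [hmem]
    exact mul_mem (mul_mem (hwT 0) (hwT 1)) (hwT 2)
  rw [eq_top_iff, ← S.norm]
  intro g _
  have hle : ∀ g : G, ∀ t ∈ S.T, g * t * g⁻¹ ∈ S.T := fun g t ht => hTeq _ (hTn g t ht)
  exact Subgroup.mem_normalizer_iff.2 fun t => ⟨hle g t, fun h => by
    have := hle g⁻¹ _ h
    rwa [show g⁻¹ * (g * t * g⁻¹) * g⁻¹⁻¹ = t by group] at this⟩

end Setting

end CfsgLib.OrderDegrees.BlockThree
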