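import Cfsg.Agent.Lib.OrderDegrees.InvolutionPairs
import Cfsg.Agent.Lib.Coherence.Signed
import Cfsg.Agent.Lib.CharTheory.PermChar
import Cfsg.Agent.Lib.CharTheory.Linear
import Cfsg.Agent.Lib.CharTheory.Inflation
import Mathlib.GroupTheory.Perm.Sign
import Mathlib.Data.Fintype.Perm

/-!
# An involution in the kernel of an irreducible character, from a projection onto `S₃`

If a subgroup `H` maps onto `S₃` so that the preimages of the three-cycles form a TI set, the
lift of the inflation of `1 + sgn - χ₂` has norm three; for an involution whose conjugates in `H`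
lie in the kernel of the projection this forces a non-trivial irreducible character containing it
in the kernel.
-/

set_option autoImplicit false
set_option linter.style.haveILetI false

open scoped ComplexConjugate
open Cfsg CfsgLib.CharTheory CfsgLib.Coherence CfsgLib.Frobenius

namespace CfsgLib.OrderDegrees.BlockThree

/-- A three-cycle of `S₃`. -/
def IsCyc (σ : Equiv.Perm (Fin 3)) : Prop := σ ≠ 1 ∧ σ ^ 3 = 1

instance : DecidablePred IsCyc := fun σ => inferInstanceAs (Decidable (σ ≠ 1 ∧ σ ^ 3 = 1))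

/-- Three on the three-cycles, zero elsewhere. -/
def cycFun (σ : Equiv.Perm (Fin 3)) : ℤ := if IsCyc σ then 3 else 0

/-- The number of fixed points. -/
def fixFun (σ : Equiv.Perm (Fin 3)) : ℕ := (Finset.univ.filter fun x => σ x = x).card

theorem cycFun_eq : ∀ σ : Equiv.Perm (Fin 3),
    cycFun σ = 1 + 1 + (Equiv.Perm.sign σ : ℤ) - fixFun σ := by decide +kernel

theorem cycFun_sum : (∑ σ : Equiv.Perm (Fin 3), cycFun σ) = 6 ∧
    (∑ σ : Equiv.Perm (Fin 3), cycFun σ * cycFun σ) = 18 := by decide +kernel

theorem card_perm_three : Nat.card (Equiv.Perm (Fin 3)) = 6 := by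
  rw [Nat.card_perm, Nat.card_fin]; rfl

theorem isGeneralizedCharacter_cycFun :
    IsGeneralizedCharacter (Equiv.Perm (Fin 3)) (fun σ => (cycFun σ : ℂ)) := by
  have h1 : IsGeneralizedCharacter (Equiv.Perm (Fin 3)) (fun _ => (1 : ℂ)) :=
    IsIrrCharacter.isGeneralizedCharacter isIrrCharacter_one
  have hs : IsGeneralizedCharacter (Equiv.Perm (Fin 3))
      (fun σ => ((Equiv.Perm.sign σ : ℤ) : ℂ)) := by
    have h := isIrrCharacter_linear
      ((Units.map (Int.castRingHom ℂ).toMonoidHom).comp (Equiv.Perm.sign (α := Fin 3)))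
    exact IsIrrCharacter.isGeneralizedCharacter h
  have hf : IsCharacter (Equiv.Perm (Fin 3)) (fun σ => (fixFun σ : ℂ)) := by
    have h := isCharacter_card_fixedBy (G := Equiv.Perm (Fin 3)) (Fin 3)
    have e : (fun σ : Equiv.Perm (Fin 3) => (Nat.card (MulAction.fixedBy (Fin 3) σ) : ℂ)) =
        fun σ => (fixFun σ : ℂ) := by
      funext σ
      rw [Nat.card_eq_fintype_card, fixFun]
      congr 1
      exact Fintype.card_of_subtype _ (fun x => by simp [MulAction.mem_fixedBy, Equiv.Perm.smul_def])
    exact e ▸ h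
  have := isGeneralizedCharacter_add (isGeneralizedCharacter_add (isGeneralizedCharacter_add h1 h1) hs)
    (isGeneralizedCharacter_neg (IsCharacter.isGeneralizedCharacter hf))
  have e : (fun σ : Equiv.Perm (Fin 3) => (cycFun σ : ℂ)) =
      (fun _ => (1 : ℂ)) + (fun _ => (1 : ℂ)) + (fun σ => ((Equiv.Perm.sign σ : ℤ) : ℂ)) +
        -(fun σ => (fixFun σ : ℂ)) := by
    funext σ
    simp [cycFun_eq, sub_eq_add_neg]
    norm_num
  rw [e]; exact this

/-- Summing over a surjection. -/
theorem sum_comp_surjective {A B : Type*} [Group A] [Group B] [Fintype A] [Fintype B]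
    (p : A →* B) (hp : Function.Surjective p) (F : B → ℂ) :
    (Nat.card B : ℂ) * ∑ a, F (p a) = (Nat.card A : ℂ) * ∑ b, F b := by
  classical
  have hcard : ∀ b : B, (Finset.univ.filter fun a => p a = b).card =
      (Finset.univ.filter fun a => p a = 1).card := fun b =>
    MonoidHom.card_fiber_eq_of_mem_range p (by simpa using hp b) ⟨1, map_one p⟩
  have h1 : ∑ a, F (p a) = ((Finset.univ.filter fun a => p a = 1).card : ℂ) * ∑ b, F b := by
    rw [← Finset.sum_fiberwise Finset.univ p, Finset.mul_sum]
    refine Finset.sum_congr rfl fun b _ => ?_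
    rw [Finset.sum_congr rfl (g := fun _ => F b) (fun a ha => by rw [(Finset.mem_filter.1 ha).2]),
      Finset.sum_const, nsmul_eq_mul, hcard]
  have h2 : Nat.card A = Nat.card B * (Finset.univ.filter fun a => p a = 1).card := by
    rw [Nat.card_eq_fintype_card, Nat.card_eq_fintype_card, ← Finset.card_univ,
      Finset.card_eq_sum_card_fiberwise (f := p) (t := Finset.univ) (fun _ _ => Finset.mem_univ _),
      Finset.sum_congr rfl fun b _ => hcard b, Finset.sum_const, smul_eq_mul, Finset.card_univ]
  rw [h1, h2, Nat.cast_mul]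
  ring

variable {G : Type*} [Group G] [Fintype G]

theorem sum_inner_signed [Fintype (IrrCharacter G)] {α : G → ℂ}
    (hα : IsIrrCharacter G α ∨ IsIrrCharacter G (-α)) (u : G) :
    ∑ χ : IrrCharacter G, classInner α (χ : G → ℂ) * ((χ : G → ℂ) u * (χ : G → ℂ) u / (χ : G → ℂ) 1) =
      α u * α u / α 1 := by
  classical
  rcases hα with h | h
  · rw [Finset.sum_eq_single (⟨α, h⟩ : IrrCharacter G) ?_ (by simp)]
    · rw [classInner_self_of_isIrr h, one_mul]
    · intro χ _ hne
      rw [classInner_eq_zero_of_ne h χ.2 (fun e => hne (Subtype.ext e.symm)), zero_mul]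
  · rw [Finset.sum_eq_single (⟨-α, h⟩ : IrrCharacter G) ?_ (by simp)]
    · rw [CfsgLib.Coherence.inner_neg_right, show classInner α α = 1 from signed_inner_self (Or.inr h)]
      simp only [Pi.neg_apply]
      ring
    · intro χ _ hne
      have h0 := classInner_eq_zero_of_ne h χ.2 (fun e => hne (Subtype.ext e.symm))
      rw [CfsgLib.Coherence.inner_neg_left, neg_eq_zero] at h0
      rw [h0, zero_mul]

/-- The main criterion. -/
theorem exists_irr_kernel (H : Subgroup G) [Fintype H] (p : H →* Equiv.Perm (Fin 3))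
    (hp : Function.Surjective p) (u : G) (hu : u * u = 1)
    (hTI : ∀ (x : G) (h h' : H), IsCyc (p h) → IsCyc (p h') → x⁻¹ * h * x = h' → x ∈ H)
    (hpair : ∀ x y : G, x * x = 1 → y * y = 1 → ∀ h : H, IsCyc (p h) → x * y = h → x ∈ H)
    (hfus : ∀ x : H, IsConj u (x : G) → p x = 1) (t : H) (ht : IsCyc (p t)) :
    ∃ χ : IrrCharacter G, (χ : G → ℂ) u = (χ : G → ℂ) 1 ∧ (χ : G → ℂ) t ≠ (χ : G → ℂ) 1 := by
  classical
  haveI := Fintype.ofFinite (IrrCharacter G)
  set v : H → ℂ := fun h => (cycFun (p h) : ℂ) with hv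
  set V := indFun H v with hV
  let S : Set G := {g | ∃ h : H, IsCyc (p h) ∧ (h : G) = g}
  have hvS : ∀ h : H, (h : G) ∉ S → v h = 0 := by
    intro h hh
    have hn : ¬ IsCyc (p h) := fun hc => hh ⟨h, hc, rfl⟩
    simp [hv, cycFun, hn]
  have hv1 : v 1 = 0 := by simp [hv, cycFun, IsCyc]
  have hti : ∀ x : G, x ∉ H → ∀ s ∈ S, x⁻¹ * s * x ∈ S → s = 1 := by
    rintro x hx s ⟨h, hh, rfl⟩ ⟨h', hh', he⟩
    exact absurd (hTI x h h' hh hh' he.symm) hx
  have hvgen : IsGeneralizedCharacter H v := isGeneralizedCharacter_comp isGeneralizedCharacter_cycFun p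
  have hVgen : IsGeneralizedCharacter G V := isGeneralizedCharacter_indFun H v hvgen
  have hHc : (Nat.card H : ℂ) ≠ 0 := by simp
  have hnorm : classInner V V = ((3 : ℕ) : ℂ) := by
    rw [hV, classInner_indFun_indFun_of_ti H S hti v v (IsGeneralizedCharacter.isClassFunction hvgen)
      hvS hvS hv1, classInner]
    have h := sum_comp_surjective p hp (fun σ => ((cycFun σ * cycFun σ : ℤ) : ℂ))
    rw [card_perm_three, ← Int.cast_sum, ← Int.cast_sum, cycFun_sum.2] at h
    simp only [hv, map_intCast, ← Int.cast_mul, ← Int.cast_sum]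
    push_cast at h ⊢
    field_simp
    simp only [pow_two] at h ⊢
    linear_combination h / 6
  have hone : classInner V (trivIrr G : G → ℂ) = 1 := by
    rw [hV, classInner_indFun _ _ _ (IsIrrCharacter.isClassFunction (trivIrr G).2), classInner]
    have h := sum_comp_surjective p hp (fun σ => ((cycFun σ : ℤ) : ℂ))
    rw [card_perm_three, ← Int.cast_sum, ← Int.cast_sum, cycFun_sum.1] at h
    simp only [hv, trivIrr_apply, map_one, mul_one, ← Int.cast_sum]
    push_cast at h ⊢
    field_simp
    linear_combination h / 6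
  obtain ⟨s, hs3, hsum, hsigned, horth⟩ := exists_signed_decomp hVgen le_rfl hnorm
  set one' : G → ℂ := (trivIrr G : G → ℂ) with hone'
  have hone_irr : IsIrrCharacter G one' ∨ IsIrrCharacter G (-one') := Or.inl (trivIrr G).2
  have hmem : one' ∈ s := by
    rw [hsum, CfsgLib.Coherence.inner_sum_left] at hone
    obtain ⟨α, hα, hne⟩ := Finset.exists_ne_zero_of_sum_ne_zero (hone ▸ one_ne_zero)
    rcases signed_inner (hsigned α hα) hone_irr with h | ⟨e, -⟩ | ⟨e, h⟩
    · exact absurd h hne
    · rwa [← e] at hα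
    · exfalso
      rw [Finset.sum_eq_single α ?_ (fun h' => absurd hα h'), h] at hone
      · norm_num at hone
      · intro β hβ hβα
        rcases signed_inner (hsigned β hβ) hone_irr with h' | ⟨e', -⟩ | ⟨e', -⟩
        · exact h'
        · have := horth α hα β hβ
          rw [if_neg (Ne.symm hβα), ← e', e, CfsgLib.Coherence.inner_neg_right,
            signed_inner_self (hsigned α hα)] at this
          norm_num at this
        · exact absurd (neg_injective (e'.symm.trans e)) hβα
  obtain ⟨x, y, hxy, hrest⟩ := Finset.card_eq_two.1 (show (s.erase one').card = 2 by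
    rw [Finset.card_erase_of_mem hmem, hs3])
  have hxs : IsIrrCharacter G x ∨ IsIrrCharacter G (-x) :=
    hsigned x (Finset.mem_of_mem_erase (hrest ▸ Finset.mem_insert_self x {y}))
  have hys : IsIrrCharacter G y ∨ IsIrrCharacter G (-y) :=
    hsigned y (Finset.mem_of_mem_erase (hrest ▸ Finset.mem_insert_of_mem (Finset.mem_singleton_self y)))
  have hVeq : V = one' + (x + y) := by
    rw [hsum, ← Finset.add_sum_erase _ _ hmem, hrest, Finset.sum_pair hxy]
  have hval : ∀ g, V g = 1 + (x g + y g) := fun g => by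
    rw [hVeq, Pi.add_apply, Pi.add_apply, hone', trivIrr_apply]
  have hV1 : V 1 = 0 := by rw [hV, indFun_one, hv1, mul_zero]
  have hVu : V u = 0 := by
    rw [hV, indFun, Finset.sum_eq_zero, mul_zero]
    intro g _
    by_cases hm : g⁻¹ * u * g ∈ H
    · rw [extendByZero_of_mem H v hm]
      have := hfus ⟨_, hm⟩ (isConj_iff.2 ⟨g⁻¹, by simp⟩)
      simp [hv, this, cycFun, IsCyc]
    · exact extendByZero_of_not_mem H v hm
  have hquad : 1 + (x u * x u / x 1 + y u * y u / y 1) = 0 := by
    have h := sum_indFun_involutions H u u hu hu v (fun a b ha hb h hh he => hpair a b ha hb h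
      (by by_contra hn; exact hh (by simp [hv, cycFun, hn])) he)
    rw [← hV, Finset.sum_eq_zero fun a _ => Finset.sum_eq_zero fun b _ => ?_, mul_zero] at h
    swap
    · split_ifs with hc
      · simp [hv, map_mul, hfus a hc.1, hfus b hc.2, cycFun, IsCyc]
      · rfl
    simp only [hVeq, CfsgLib.Coherence.inner_add_left, add_mul, Finset.sum_add_distrib, sum_inner_signed hone_irr,
      sum_inner_signed hxs, sum_inner_signed hys] at h
    simpa [hone', trivIrr_apply] using h
  have hx1 := signed_apply_one_ne_zero hxs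
  have hy1 := signed_apply_one_ne_zero hys
  have h0 := hval 1
  have hu0 := hval u
  rw [hV1] at h0
  rw [hVu] at hu0
  have hxu : x u = x 1 := by
    have : (x u - x 1) * (x u - x 1) = 0 := by
      have e1 : y u = -1 - x u := by linear_combination -hu0
      have e2 : y 1 = -1 - x 1 := by linear_combination -h0
      rw [e1, e2] at hquad
      have hd : -1 - x 1 ≠ 0 := e2 ▸ hy1
      field_simp at hquad
      linear_combination -hquad
    exact sub_eq_zero.1 (mul_self_eq_zero.1 this)
  have hyu : y u = y 1 := by linear_combination h0 - hu0 - hxu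
  have ht3 : x t + y t ≠ x 1 + y 1 := by
    intro e
    have h3 : V t = 3 := by
      rw [hV, indFun_coe_of_ti H S hti v (IsGeneralizedCharacter.isClassFunction hvgen) hvS hv1 t
        ⟨t, ht, rfl⟩]
      simp [hv, cycFun, ht]
    have := hval t
    rw [h3, e, ← h0] at this
    norm_num at this
  have pick : ∀ z : G → ℂ, (IsIrrCharacter G z ∨ IsIrrCharacter G (-z)) → z u = z 1 → z t ≠ z 1 →
      ∃ χ : IrrCharacter G, (χ : G → ℂ) u = (χ : G → ℂ) 1 ∧ (χ : G → ℂ) t ≠ (χ : G → ℂ) 1 := by
    intro z hz hzu hzt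
    rcases hz with h | h
    · exact ⟨⟨z, h⟩, hzu, hzt⟩
    · exact ⟨⟨-z, h⟩, by simp [hzu], by simpa using hzt⟩
  by_cases hxt : x t = x 1
  · exact pick y hys hyu fun e => ht3 (by rw [hxt, e])
  · exact pick x hxs hxu hxt

end CfsgLib.OrderDegrees.BlockThree
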